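import Mathlib.RingTheory.Unramified.Field
import Mathlib.RingTheory.LocalRing.Module
import Mathlib.RingTheory.Etale.Basic
import Mathlib.RingTheory.RootsOfUnity.PrimitiveRoots
import Mathlib.FieldTheory.IsAlgClosed.AlgebraicClosure
import Mathlib.LinearAlgebra.Vandermonde
import Mathlib.LinearAlgebra.LinearIndependent.Lemmas
import Mathlib.RingTheory.Jacobson.Ring
import Mathlib.RingTheory.Smooth.Flat
import Mathlib.LinearAlgebra.Dimension.OrzechProperty

/-!
# Kummer theory over a local ring
-/

set_option autoImplicit false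
set_option backward.isDefEq.respectTransparency false
universe u

open Polynomial TensorProduct

namespace Groth.Agent.KummerLoc25

variable {A : Type u} [CommRing A] [IsLocalRing A]

/-- An `n`-th root of unity which is trivial in the residue field is trivial, `n` being invertible. -/
theorem eq_one_of_pow_eq_one {n : ℕ} (hn : IsUnit (n : A)) {x : A} (hx : x ^ n = 1)
    (hres : IsLocalRing.residue A x = 1) : x = 1 := by
  have h : (∑ i ∈ Finset.range n, x ^ i) * (x - 1) = 0 := by rw [geom_sum_mul, hx, sub_self]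
  have hu : IsUnit (∑ i ∈ Finset.range n, x ^ i) := by
    rw [← IsLocalRing.residue_ne_zero_iff_isUnit, map_sum]
    simp only [map_pow, hres, one_pow, Finset.sum_const, Finset.card_range, nsmul_eq_mul, mul_one]
    rw [← map_natCast (IsLocalRing.residue A)]
    exact (IsLocalRing.residue_ne_zero_iff_isUnit _).2 hn
  exact sub_eq_zero.1 (hu.mul_right_eq_zero.1 h)

variable {n : ℕ} {ζ₀ : A}

/-- A primitive root of unity stays primitive in the residue field. -/
theorem residue_pow_injective (hn : IsUnit (n : A)) (hζ₀ : IsPrimitiveRoot ζ₀ n) :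
    Function.Injective fun i : Fin n => IsLocalRing.residue A (ζ₀ ^ (i : ℕ)) := by
  suffices h : ∀ i j : ℕ, i ≤ j → j < n → IsLocalRing.residue A (ζ₀ ^ i) = IsLocalRing.residue A (ζ₀ ^ j) → i = j by
    intro i j hij
    rcases le_total (i : ℕ) j with hle | hle
    · exact Fin.ext (h i j hle j.2 hij)
    · exact Fin.ext (h j i hle i.2 hij.symm).symm
  intro i j hle hj hij
  have hu : IsUnit ζ₀ := hζ₀.isUnit (fun h => by omega)
  have h1 : IsLocalRing.residue A (ζ₀ ^ (j - i)) = 1 := by
    apply mul_left_cancel₀ (a := IsLocalRing.residue A (ζ₀ ^ i))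
      ((IsLocalRing.residue_ne_zero_iff_isUnit _).2 (hu.pow i))
    rw [← map_mul, ← pow_add, Nat.add_sub_cancel' hle, mul_one, hij]
  have h2 := eq_one_of_pow_eq_one hn (by rw [← pow_mul, mul_comm, pow_mul, hζ₀.pow_eq_one, one_pow]) h1
  have := hζ₀.dvd_of_pow_eq_one _ h2
  have := Nat.eq_zero_of_dvd_of_lt this (by omega)
  omega

/-- The roots of unity of order dividing `n` are the powers of a primitive one. -/
theorem exists_pow_eq (hn : IsUnit (n : A)) (hn1 : 1 ≤ n) (hζ₀ : IsPrimitiveRoot ζ₀ n) (x : A) (hx : x ^ n = 1) :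
    ∃ i : Fin n, x = ζ₀ ^ (i : ℕ) := by
  classical
  have hcard : (Finset.univ.image fun i : Fin n => IsLocalRing.residue A (ζ₀ ^ (i : ℕ))).card = n := by
    rw [Finset.card_image_of_injective _ (residue_pow_injective hn hζ₀), Finset.card_univ, Fintype.card_fin]
  have hmem : IsLocalRing.residue A x ∈ Finset.univ.image fun i : Fin n => IsLocalRing.residue A (ζ₀ ^ (i : ℕ)) := by
    by_contra hnot
    have hsub : insert (IsLocalRing.residue A x) (Finset.univ.image fun i : Fin n => IsLocalRing.residue A (ζ₀ ^ (i : ℕ))) ⊆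
        (nthRoots n (1 : IsLocalRing.ResidueField A)).toFinset := by
      intro y hy
      rw [Multiset.mem_toFinset, mem_nthRoots (by omega)]
      rcases Finset.mem_insert.1 hy with rfl | hy
      · rw [← map_pow, hx, map_one]
      · obtain ⟨i, -, rfl⟩ := Finset.mem_image.1 hy
        rw [← map_pow, ← pow_mul, mul_comm, pow_mul, hζ₀.pow_eq_one, one_pow, map_one]
    have h := Finset.card_le_card hsub
    rw [Finset.card_insert_of_notMem hnot, hcard] at h
    have := (Multiset.toFinset_card_le _).trans (card_nthRoots n (1 : IsLocalRing.ResidueField A))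
    omega
  obtain ⟨i, -, hi⟩ := Finset.mem_image.1 hmem
  refine ⟨i, ?_⟩
  have hu : IsUnit (ζ₀ ^ (i : ℕ)) := (hζ₀.isUnit (fun h => by omega)).pow _
  obtain ⟨v, hv⟩ := hu
  have h1 : IsLocalRing.residue A (x * ↑v⁻¹) = 1 := by
    rw [map_mul, ← hi, ← map_mul, ← hv, Units.mul_inv, map_one]
  have h2 : (x * (↑v⁻¹ : A)) ^ n = 1 := by
    rw [mul_pow, hx, one_mul]
    have : (↑v : A) ^ n = 1 := by rw [hv, ← pow_mul, mul_comm, pow_mul, hζ₀.pow_eq_one, one_pow]
    rw [← Units.val_pow_eq_pow_val, inv_pow, show v ^ n = 1 from Units.ext (by rw [Units.val_pow_eq_pow_val, this, Units.val_one]),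
      inv_one, Units.val_one]
  have h3 := eq_one_of_pow_eq_one hn h2 h1
  rw [← hv]
  calc x = x * ↑v⁻¹ * ↑v := by rw [mul_assoc, Units.inv_mul, mul_one]
    _ = ↑v := by rw [h3, one_mul]

variable {B : Type u} [CommRing B] [Algebra A B] [Module.Finite A B] [Algebra.Etale A B]

set_option maxHeartbeats 800000 in
/-- A finite étale algebra with an action of the roots of unity, simply transitive on the geometric points of the
closed fibre, has a unit eigenvector whose powers form a basis. -/
theorem exists_eigen_basis (hn1 : 1 ≤ n) (hn : IsUnit (n : A)) (hζ₀ : IsPrimitiveRoot ζ₀ n)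
    (σ : ↥(rootsOfUnity n A) → B →ₐ[A] B) (hσ : ∀ g h, σ (g * h) = (σ h).comp (σ g))
    (Ω : Type u) [Field Ω] [IsAlgClosed Ω] [Algebra A Ω] [IsLocalHom (algebraMap A Ω)]
    (φ₀ : B →ₐ[A] Ω) (htr : ∀ ψ : B →ₐ[A] Ω, ∃! g, φ₀.comp (σ g) = ψ) :
    ∃ (e : B) (a : Aˣ) (b : Module.Basis (Fin n) A B), (∀ i, b i = e ^ (i : ℕ)) ∧ e ^ n = algebraMap A B a ∧
      ∀ g : rootsOfUnity n A, σ g e = algebraMap A B ((g : Aˣ) : A) * e := by
  classical
  haveI : NeZero n := ⟨by omega⟩
  -- the roots of unity
  have hmem : ∀ i : Fin n, (hζ₀.isUnit (NeZero.ne n)).unit ^ (i : ℕ) ∈ rootsOfUnity n A := fun i => by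
    rw [mem_rootsOfUnity, Units.ext_iff, Units.val_pow_eq_pow_val, Units.val_pow_eq_pow_val, Units.val_one,
      IsUnit.unit_spec, ← pow_mul, mul_comm, pow_mul, hζ₀.pow_eq_one, one_pow]
  let eF : Fin n → rootsOfUnity n A := fun i => ⟨_, hmem i⟩
  have hval : ∀ i, ((eF i : Aˣ) : A) = ζ₀ ^ (i : ℕ) := fun i => by simp [eF]
  have hsurj : Function.Surjective eF := fun g => by
    obtain ⟨i, hi⟩ := exists_pow_eq hn hn1 hζ₀ _ (by
      rw [← Units.val_pow_eq_pow_val, (mem_rootsOfUnity _ _).1 g.2, Units.val_one] : ((g : Aˣ) : A) ^ n = 1)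
    exact ⟨i, Subtype.ext (Units.ext ((hval i).trans hi.symm))⟩
  haveI : Finite (rootsOfUnity n A) := Finite.of_surjective eF hsurj
  haveI : Fintype (rootsOfUnity n A) := Fintype.ofFinite _
  -- the values in `Ω`
  have hinjΩ : ∀ x y : A, IsLocalRing.residue A x ≠ IsLocalRing.residue A y → algebraMap A Ω x ≠ algebraMap A Ω y := by
    intro x y hxy h
    apply hxy
    rw [← sub_eq_zero, ← map_sub, IsLocalRing.residue_eq_zero_iff]
    intro hu
    exact (hu.map (algebraMap A Ω)).ne_zero (by rw [map_sub, h, sub_self])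
  have heFinj : Function.Injective eF := fun i j hij => residue_pow_injective hn hζ₀ (by
    show IsLocalRing.residue A _ = IsLocalRing.residue A _
    rw [← hval, ← hval, hij])
  let φ : rootsOfUnity n A → B →ₐ[A] Ω := fun g => φ₀.comp (σ g)
  have hφinj : Function.Injective φ := fun g h hgh => (htr (φ g)).unique rfl hgh.symm
  have hφsurj : ∀ ψ, ∃ g, φ g = ψ := fun ψ => (htr ψ).exists
  let w : rootsOfUnity n A → Ω := fun g => algebraMap A Ω ((g⁻¹ : rootsOfUnity n A) : Aˣ)
  -- the resolvent
  let r : B → B := fun x => ∑ g, algebraMap A B (((g⁻¹ : rootsOfUnity n A) : Aˣ) : A) * σ g x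
  obtain ⟨x, hx⟩ : ∃ x, φ₀ (r x) ≠ 0 := by
    by_contra! h
    have hli : LinearIndependent Ω (fun g => ((φ g : B →* Ω) : B → Ω)) :=
      (linearIndependent_monoidHom B Ω).comp (fun g => (φ g : B →* Ω))
        fun g h hgh => hφinj (AlgHom.ext fun x => DFunLike.congr_fun hgh x)
    have h0 : ∑ g, w g • ((φ g : B →* Ω) : B → Ω) = 0 := funext fun x => by
      have := h x
      simp only [r, map_sum, map_mul, AlgHom.commutes] at this
      rw [Finset.sum_apply]
      exact this
    have := Fintype.linearIndependent_iff.1 hli w h0 1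
    simp [w] at this
  let e := r x
  have heig : ∀ g : rootsOfUnity n A, σ g e = algebraMap A B ((g : Aˣ) : A) * e := by
    intro h
    simp only [e, r, map_sum, map_mul, AlgHom.commutes, Finset.mul_sum]
    rw [← Equiv.sum_comp (Equiv.mulRight h) (fun g => algebraMap A B ((h : Aˣ) : A) *
      (algebraMap A B (((g⁻¹ : rootsOfUnity n A) : Aˣ) : A) * σ g x))]
    refine Finset.sum_congr rfl fun g _ => ?_
    rw [Equiv.coe_mulRight, hσ, AlgHom.comp_apply, ← mul_assoc, ← map_mul, ← Units.val_mul, ← Subgroup.coe_mul,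
      mul_inv_rev, mul_inv_cancel_left]
  have hφe : ∀ g, φ g e = algebraMap A Ω ((g : Aˣ) : A) * φ₀ e := fun g => by
    rw [AlgHom.comp_apply, heig, map_mul, AlgHom.commutes]
  -- linear independence over the residue field
  let k := IsLocalRing.ResidueField A
  let jk : k →+* Ω := IsLocalRing.ResidueField.lift (algebraMap A Ω)
  letI : Algebra k Ω := jk.toAlgebra
  haveI : IsScalarTower A k Ω := IsScalarTower.of_algebraMap_eq fun a => rfl
  let v : Fin n → Ω := fun i => φ (eF i) e
  have hv : Function.Injective v := fun i j hij => by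
    simp only [v, hφe] at hij
    have h1 := mul_right_cancel₀ hx hij
    by_contra hne
    exact hinjΩ _ _ (fun h => hne (residue_pow_injective hn hζ₀ (by
      show IsLocalRing.residue A _ = IsLocalRing.residue A _
      rw [← hval, ← hval]; exact h))) h1
  have hli : LinearIndependent k fun i : Fin n => (1 : k) ⊗ₜ[A] (e ^ (i : ℕ)) := by
    rw [Fintype.linearIndependent_iff]
    intro c hc
    have hdet : (Matrix.vandermonde v).det ≠ 0 := Matrix.det_vandermonde_ne_zero_iff.2 hv
    have h0 : Matrix.mulVec (Matrix.vandermonde v) (fun i => jk (c i)) = 0 := by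
      funext i
      have h1 := congrArg (Algebra.TensorProduct.lift (Algebra.ofId k Ω) (φ (eF i)) fun _ _ => Commute.all _ _) hc
      simp only [map_sum, map_zero, map_smul, Algebra.TensorProduct.lift_tmul, map_one, one_mul, map_pow] at h1
      rw [Pi.zero_apply, ← h1, Matrix.mulVec, dotProduct]
      refine Finset.sum_congr rfl fun m _ => ?_
      rw [Matrix.vandermonde_apply, mul_comm, Algebra.smul_def]
      rfl
    intro i
    have := Matrix.eq_zero_of_mulVec_eq_zero hdet h0
    exact jk.injective (by rw [map_zero]; exact congrFun this i)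
  -- the rank
  haveI : Module.Free A B := Module.free_of_flat_of_isLocalRing
  have hge : n ≤ Module.finrank A B := by
    have := hli.fintype_card_le_finrank
    rwa [Fintype.card_fin, Module.finrank_baseChange] at this
  have hle : Module.finrank A B ≤ n := by
    let T := Ω ⊗[A] B
    haveI : IsReduced T := Algebra.FormallyUnramified.isReduced_of_field Ω T
    let Θ : rootsOfUnity n A → T →ₐ[Ω] Ω := fun g =>
      Algebra.TensorProduct.lift (AlgHom.id Ω Ω) (φ g) fun _ _ => Commute.all _ _
    let Φ : T →ₗ[Ω] (rootsOfUnity n A → Ω) := LinearMap.pi fun g => (Θ g).toLinearMap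
    have hΦ : Function.Injective Φ := by
      rw [injective_iff_map_eq_zero]
      intro t ht
      refine IsNilpotent.eq_zero (nilpotent_iff_mem_prime.2 fun P hP => ?_)
      haveI : IsArtinianRing T := IsArtinianRing.of_finite Ω T
      haveI : P.IsMaximal := IsArtinianRing.isMaximal_of_isPrime P
      letI := Ideal.Quotient.field P
      have hbij := IsAlgClosed.algebraMap_bijective_of_isIntegral (k := Ω) (K := T ⧸ P)
      let π : T →ₐ[Ω] Ω :=
        (AlgEquiv.ofBijective (Algebra.ofId Ω (T ⧸ P)) hbij).symm.toAlgHom.comp (Ideal.Quotient.mkₐ Ω P)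
      obtain ⟨g, hg⟩ := hφsurj ((π.restrictScalars A).comp Algebra.TensorProduct.includeRight)
      have hπ : π = Θ g := Algebra.TensorProduct.ext (Subsingleton.elim _ _) (AlgHom.ext fun b => by
        show π (1 ⊗ₜ b) = Θ g (1 ⊗ₜ b)
        rw [Algebra.TensorProduct.lift_tmul, map_one, one_mul, hg]
        rfl)
      have h1 : π t = 0 := by rw [hπ]; exact congrFun ht g
      rw [← Ideal.Quotient.eq_zero_iff_mem]
      exact (AlgEquiv.ofBijective (Algebra.ofId Ω (T ⧸ P)) hbij).symm.injective (h1.trans (map_zero _).symm)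
    have h := LinearMap.finrank_le_finrank_of_injective hΦ
    rw [Module.finrank_baseChange, Module.finrank_pi] at h
    exact h.trans (le_of_eq_of_le (Fintype.card_congr (Equiv.ofBijective eF ⟨heFinj, hsurj⟩)).symm (by simp))
  have hcard : Fintype.card (Fin n) = Module.finrank k (k ⊗[A] B) := by
    rw [Fintype.card_fin, Module.finrank_baseChange]; omega
  haveI : Nonempty (Fin n) := ⟨⟨0, hn1⟩⟩
  let bk := basisOfLinearIndependentOfCardEqFinrank hli hcard
  have hspan : Submodule.span A (Set.range fun i : Fin n => e ^ (i : ℕ)) = ⊤ :=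
    IsLocalRing.span_eq_top_of_tmul_eq_basis _ bk fun i => by
      rw [coe_basisOfLinearIndependentOfCardEqFinrank]
  let b := basisOfTopLeSpanOfCardEqFinrank (fun i : Fin n => e ^ (i : ℕ)) hspan.ge (by rw [Fintype.card_fin]; omega)
  have hb : ∀ i, b i = e ^ (i : ℕ) := fun i => by rw [coe_basisOfTopLeSpanOfCardEqFinrank]
  -- the power is a scalar
  have hpow : ∀ (g : rootsOfUnity n A), σ g (e ^ n) = e ^ n := fun g => by
    rw [map_pow, heig, mul_pow, ← map_pow, ← Units.val_pow_eq_pow_val, (mem_rootsOfUnity _ _).1 g.2, Units.val_one,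
      map_one, one_mul]
  let c := b.repr (e ^ n)
  have hc : ∀ i : Fin n, i ≠ ⟨0, hn1⟩ → c i = 0 := by
    intro i hi
    have h1 := hpow (eF ⟨1 % n, Nat.mod_lt _ (by omega)⟩)
    have h1n : 1 % n = 1 := Nat.mod_eq_of_lt (by
      have := i.2
      have : (i : ℕ) ≠ 0 := fun h => hi (Fin.ext h)
      omega)
    have h3 : σ (eF ⟨1 % n, Nat.mod_lt _ (by omega)⟩) (∑ m, c m • b m) = ∑ m : Fin n, (c m * ζ₀ ^ (m : ℕ)) • b m := by
      rw [map_sum]
      refine Finset.sum_congr rfl fun m _ => ?_
      rw [map_smul, hb, map_pow, heig, hval, mul_pow, ← map_pow, ← Algebra.smul_def, smul_smul,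
        show ((⟨1 % n, Nat.mod_lt _ (by omega)⟩ : Fin n) : ℕ) = 1 from h1n, pow_one]
    rw [← b.sum_repr (e ^ n)] at h1
    have h2 := congrArg (fun z => b.repr z i) (h3.symm.trans h1)
    simp only [Module.Basis.repr_sum_self] at h2
    have hne : (i : ℕ) ≠ 0 := fun h => hi (Fin.ext h)
    have hu : IsUnit (ζ₀ ^ (i : ℕ) - 1) := by
      rw [← IsLocalRing.residue_ne_zero_iff_isUnit, map_sub, sub_ne_zero]
      intro h
      exact hne (congrArg Fin.val (residue_pow_injective hn hζ₀ (a₁ := i) (a₂ := ⟨0, hn1⟩) (by simpa using h)))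
    exact hu.mul_left_eq_zero.1 (by rw [mul_sub, mul_one, h2, sub_self])
  have hen : e ^ n = algebraMap A B (c ⟨0, hn1⟩) := by
    rw [← b.sum_repr (e ^ n), Finset.sum_eq_single (⟨0, hn1⟩ : Fin n) (fun i _ hi => by
      rw [show b.repr (e ^ n) i = 0 from hc i hi, zero_smul]) (fun h => absurd (Finset.mem_univ _) h), hb]
    rw [pow_zero, ← Algebra.algebraMap_eq_smul_one]
  have ha : IsUnit (c ⟨0, hn1⟩) := by
    rw [← IsLocalRing.residue_ne_zero_iff_isUnit]
    intro h0
    have h1 : φ₀ e ^ n = 0 := by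
      rw [← map_pow, hen, AlgHom.commutes, IsScalarTower.algebraMap_apply A k Ω]
      show jk (IsLocalRing.residue A _) = 0
      rw [h0, map_zero]
    exact hx (eq_zero_of_pow_eq_zero h1)
  exact ⟨e, ha.unit, b, hb, by rw [IsUnit.unit_spec]; exact hen, heig⟩

end Groth.Agent.KummerLoc25
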